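import Mathlib
import Cfsg.Agent.ClosedExc.Frame
import Cfsg.Agent.H643.Sd.Basic
import Cfsg.Agent.S4627

/-!
# Frames of commuting rank one groups: `Elem` (S4579, helper775)

`frame_elem` : `R` a root group datum of the finite group `Y`, a frame of commuting rank one groups `LL X (β a)` (quotients
of `SL₂`, odd characteristic), a 2-subgroup `P` of the Weyl group permuting the frame faithfully. Suppose that the squares of
the elements of the torus and of suitable representatives of generators of `P` lie in the product `E` of the rank one groups,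
and that `E.NP R P` has odd index. Then the Sylow 2-subgroups `S` of `Y` have an elementary abelian quotient `S/S'`.
-/

set_option autoImplicit false
set_option linter.unusedSectionVars false

namespace Cfsg.Agent.H775.Sd.FrameElem

open Cfsg.Agent.H643.Sd

section gen

theorem elem_of_surjective {G H : Type*} [Group G] [Finite G] [Group H] (f : G →* H) (hf : Function.Surjective f)
    (h : Elem G) : Elem H := h.of_surjective f hf

theorem lin2_of_mulEquiv {A B : Type*} [Group A] [Group B] (e : A ≃* B) (h : Lin2 A) : Lin2 B := by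
  intro f x
  have := h (f.comp e.toMonoidHom) (e.symm x)
  simpa using this

/-- 2-groups -/
theorem elem_of_isPGroup {K : Type*} [Group K] [Finite K] (hK : IsPGroup 2 K) (h : Lin2 K) : Elem K := by
  intro P
  have hP : (P : Subgroup K) = ⊤ := (P.is_maximal' (hK.to_subgroup ⊤) le_top).symm
  rw [hP]
  exact lin2_of_mulEquiv Subgroup.topEquiv.symm h

theorem lin2_prod {A B : Type*} [Group A] [Group B] (hA : Lin2 A) (hB : Lin2 B) : Lin2 (A × B) := by
  rintro f ⟨a, b⟩
  have h1 : (a, b) = (a, 1) * (1, b) := by simp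
  rw [h1, map_mul, mul_pow]
  have h2 : f (a, 1) ^ 2 = 1 := hA (f.comp (MonoidHom.inl A B)) a
  have h3 : f (1, b) ^ 2 = 1 := hB (f.comp (MonoidHom.inr A B)) b
  rw [h2, h3, one_mul]

theorem elem_prod {A B : Type*} [Group A] [Finite A] [Group B] [Finite B] (hA : Elem A) (hB : Elem B) :
    Elem (A × B) := by
  obtain ⟨P⟩ : Nonempty (Sylow 2 A) := inferInstance
  obtain ⟨Q⟩ : Nonempty (Sylow 2 B) := inferInstance
  have hp : Fact (Nat.Prime 2) := ⟨Nat.prime_two⟩
  refine elem_of_odd_index ((P : Subgroup A).prod (Q : Subgroup B)) ?_ ?_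
  · rw [Subgroup.index_prod, Nat.odd_mul]
    constructor
    · rw [← Nat.not_even_iff_odd, even_iff_two_dvd]
      exact P.not_dvd_index
    · rw [← Nat.not_even_iff_odd, even_iff_two_dvd]
      exact Q.not_dvd_index
  · have e : ((P : Subgroup A).prod (Q : Subgroup B)) ≃* (↥(P : Subgroup A) × ↥(Q : Subgroup B)) :=
      Subgroup.prodEquiv _ _
    refine elem_of_isPGroup ?_ (lin2_of_mulEquiv e.symm (lin2_prod (hA P) (hB Q)))
    rintro ⟨⟨a, b⟩, ha, hb⟩
    obtain ⟨k, hk⟩ := P.2 ⟨a, ha⟩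
    obtain ⟨m, hm⟩ := Q.2 ⟨b, hb⟩
    have hk' : a ^ 2 ^ k = 1 := congrArg Subtype.val hk
    have hm' : b ^ 2 ^ m = 1 := congrArg Subtype.val hm
    refine ⟨k + m, Subtype.ext (Prod.ext ?_ ?_)⟩
    · show a ^ 2 ^ (k + m) = 1
      rw [pow_add, pow_mul, hk', one_pow]
    · show b ^ 2 ^ (k + m) = 1
      rw [add_comm, pow_add, pow_mul, hm', one_pow]

variable {G : Type*} [Group G]

/-- products of two commuting subgroups -/
theorem elem_sup [Finite G] {L H : Subgroup G} (hL : Elem L) (hH : Elem H) (hc : ∀ x ∈ L, ∀ y ∈ H, Commute x y) :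
    Elem ↥(L ⊔ H) := by
  let f : L × H →* ↥(L ⊔ H) :=
    { toFun := fun z => ⟨(z.1 : G) * z.2, mul_mem (Subgroup.mem_sup_left z.1.2) (Subgroup.mem_sup_right z.2.2)⟩
      map_one' := Subtype.ext (mul_one _)
      map_mul' := fun z w => by
        apply Subtype.ext
        show ((z.1 : G) * w.1) * ((z.2 : G) * w.2) = (z.1 : G) * z.2 * (w.1 * w.2)
        have h1 : (w.1 : G) * z.2 = z.2 * w.1 := hc _ w.1.2 _ z.2.2
        calc ((z.1 : G) * w.1) * ((z.2 : G) * w.2) = z.1 * (w.1 * z.2) * w.2 := by group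
          _ = _ := by rw [h1]; group }
  refine elem_of_surjective f ?_ (elem_prod hL hH)
  rintro ⟨x, hx⟩
  have hn : H ≤ Subgroup.normalizer (L : Set G) := by
    refine le_trans ?_ (Subgroup.centralizer_le_normalizer (s := (L : Set G)))
    intro y hy
    rw [Subgroup.mem_centralizer_iff]
    exact fun z hz => (hc z hz y hy).eq
  have hx' : x ∈ ((L ⊔ H : Subgroup G) : Set G) := hx
  rw [Subgroup.coe_mul_of_right_le_normalizer_left _ _ hn, Set.mem_mul] at hx'
  obtain ⟨y, hy, z, hz, rfl⟩ := hx'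
  exact ⟨(⟨y, hy⟩, ⟨z, hz⟩), rfl⟩

theorem elem_of_subsingleton {K : Type*} [Group K] [Subsingleton K] : Elem K := by
  intro P f x
  have : x = 1 := Subsingleton.elim _ _
  rw [this, map_one, one_pow]

/-- finitely many pairwise commuting subgroups -/
theorem elem_iSup [Finite G] {ι : Type*} [Finite ι] {L : ι → Subgroup G} (hL : ∀ a, Elem (L a))
    (hc : ∀ a b, a ≠ b → ∀ x ∈ L a, ∀ y ∈ L b, Commute x y) : Elem ↥(⨆ a, L a) := by
  classical
  have : Fintype ι := Fintype.ofFinite ι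
  have key : ∀ s : Finset ι, Elem ↥(⨆ a ∈ s, L a) := by
    intro s
    induction s using Finset.induction_on with
    | empty =>
      have h1 : (⨆ a ∈ (∅ : Finset ι), L a) = ⊥ := by simp
      rw [h1]
      exact elem_of_subsingleton
    | insert a s ha ih =>
      rw [Finset.iSup_insert]
      refine elem_sup (hL a) ih ?_
      intro x hx y hy
      have hle : (⨆ b ∈ s, L b) ≤ Subgroup.centralizer ({x} : Set G) := by
        refine iSup₂_le fun b hb z hz => ?_
        rw [Subgroup.mem_centralizer_singleton_iff]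
        exact (hc a b (fun e => ha (e ▸ hb)) x hx z hz).symm
      exact (Subgroup.mem_centralizer_singleton_iff.1 (hle hy)).symm
  have h1 : (⨆ a ∈ (Finset.univ : Finset ι), L a) = ⨆ a, L a := by simp
  rw [← h1]
  exact key Finset.univ

/-- linear characters and the commutator subgroup -/
theorem lin2_of_sq {K : Type*} [Group K] (h : ∀ x : K, x ^ 2 ∈ commutator K) : Lin2 K := by
  intro f x
  rw [← map_pow]
  exact (Abelianization.commutator_subset_ker f) (h x)

theorem elem_SL {F : Type} [Field F] [Fintype F] (hF : Odd (Fintype.card F)) :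
    Elem (Matrix.SpecialLinearGroup (Fin 2) F) := by
  intro P
  refine lin2_of_sq ?_
  refine S4627.result hF 1 le_rfl ?_ P
  have h1 : Fintype.card F % 4 = 1 ∨ Fintype.card F % 4 = 3 := by
    have := Nat.odd_iff.1 hF
    omega
  rcases h1 with h1 | h1
  · right
    refine ⟨?_, 0, rfl⟩
    omega
  · left
    omega

theorem elem_of_isSL [Finite G] {L : Subgroup G} (h : ClosedExc.IsSL L) : Elem L := by
  obtain ⟨F, i1, i2, φ, hF, -, rfl⟩ := h
  exact elem_of_surjective φ.rangeRestrict φ.rangeRestrict_surjective (elem_SL hF)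

/-- A group generated by `p`-subgroups, `p` odd: the abelianization has odd order. -/
theorem odd_abelianization {K : Type*} [Group K] [Finite K] {p : ℕ} [Fact p.Prime] (hp2 : Odd p) {S : Set K}
    (hS : Subgroup.closure S = ⊤) (h : ∀ x ∈ S, ∃ k : ℕ, x ^ p ^ k = 1) : Odd (Nat.card (Abelianization K)) := by
  have h1 : IsPGroup p (Abelianization K) := by
    intro y
    obtain ⟨x, rfl⟩ := QuotientGroup.mk_surjective y
    have hx : x ∈ Subgroup.closure S := by rw [hS]; exact Subgroup.mem_top x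
    show ∃ k : ℕ, (Abelianization.of x) ^ p ^ k = 1
    induction hx using Subgroup.closure_induction with
    | mem x hx =>
      obtain ⟨k, hk⟩ := h x hx
      exact ⟨k, by rw [← map_pow, hk, map_one]⟩
    | one => exact ⟨0, by rw [map_one, one_pow]⟩
    | mul x y _ _ hx hy =>
      obtain ⟨k, hk⟩ := hx
      obtain ⟨m, hm⟩ := hy
      refine ⟨k + m, ?_⟩
      rw [map_mul, mul_pow]
      have e1 : (Abelianization.of x) ^ p ^ (k + m) = 1 := by rw [pow_add, pow_mul, hk, one_pow]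
      have e2 : (Abelianization.of y) ^ p ^ (k + m) = 1 := by rw [add_comm, pow_add, pow_mul, hm, one_pow]
      rw [e1, e2, one_mul]
    | inv x _ hx =>
      obtain ⟨k, hk⟩ := hx
      exact ⟨k, by rw [map_inv, inv_pow, hk, inv_one]⟩
  obtain ⟨n, hn⟩ := IsPGroup.iff_card.1 h1
  rw [hn]
  exact hp2.pow

end gen

section frame

open CoxeterSystem Cfsg.Agent.ChevalleyStructure.CoxeterGeom Cfsg.Agent.Tits.Roots Cfsg.Agent.Tits.Core
  Cfsg.Agent.Nodes.Reps Cfsg.Agent.Nodes.BNOf Cfsg.Agent.Nodes.Bruhat Cfsg.Agent.Nodes.FreeTorus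
  Cfsg.Agent.ClosedTwo.Torus Cfsg.Agent.ClosedTwo.Elem Cfsg.Agent.ClosedExc Cfsg.Agent.ClosedExc.Rk
  Cfsg.Agent.ClosedExc.Prod Cfsg.Agent.ClosedExc.Frame

variable {I W Y : Type*} [Fintype I] [DecidableEq I] [Group W] [Group Y] {M : CoxeterMatrix I}
  {cs : CoxeterSystem M W} {C : I → I → ℤ} {h : IsCartan M C} {p : ℕ} {T : Subgroup Y} {n : I → Y}
  {X : (I → ℤ) → Subgroup Y} (R : RGD cs h p T n X) [Finite W] [Finite Y]
  {ι : Type*} [Fintype ι] {β : ι → (I → ℤ)} {P : Subgroup W} (F : FrameData cs h X β P)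

include R F

/-- the order count -/
theorem odd_index (hG : RGD.Sup X {x | IsRoot cs h x} = ⊤) (hSL : ∀ i, IsSL (LL X (sr i)))
    (hord : ∀ m : ℕ, 2 ^ m ∣ Nat.card Y → 2 ^ m ∣ Nat.card T * Nat.card P * ∏ a, (Nat.card (X (β a)) + 1)) :
    Odd ((⨆ a, LL X (β a)) ⊔ NP R P).index := by
  have hSL' : ∀ x, IsRoot cs h x → IsSL (LL X x) := fun x hx => isSL_of_root R hSL hx
  have hGG : GG cs h T X = ⊤ := by
    rw [eq_top_iff, ← hG]
    exact le_sup_right
  have hn := NP_le_normalizer R F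
  have hinf : (⨆ a, LL X (β a)) ⊓ NP R P = (⨆ a, LL X (β a)) ⊓ T := by
    apply le_antisymm
    · rintro g ⟨h1, w, hw, hg⟩
      refine ⟨h1, frame_kernel R F hSL' hw hg (one_mem _) fun a => ?_⟩
      rw [one_mul]
      exact frame_cj_E F h1 a
    · exact inf_le_inf_left _ (T_le_NP R)
  have hE : Nat.card ↥((⨆ a, LL X (β a)) ⊓ T) * ∏ a, (Nat.card (X (β a)) + 1) ∣ Nat.card ↥(⨆ a, LL X (β a)) := by
    have h1 := Prod.card_dvd (L := fun a => LL X (β a)) (K := fun a => X (β a)) F.orth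
      (fun a => X_le_LL (β a)) (St := T) (fun s hs a => R.tor _ (F.root a) s hs)
    have h2 : ∀ a, Nat.card (Set.range fun g : LL X (β a) => cj (g : Y) (X (β a))) = Nat.card (X (β a)) + 1 :=
      fun a => card_conj R hGG (F.root a)
    simp only [h2] at h1
    exact h1
  have hcard : Nat.card T * Nat.card P * ∏ a, (Nat.card (X (β a)) + 1) ∣ Nat.card ↥((⨆ a, LL X (β a)) ⊔ NP R P) := by
    have h1 := card_sup_mul' hn
    rw [hinf, card_NP R P] at h1
    obtain ⟨c, hc⟩ := hE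
    rw [hc] at h1
    refine ⟨c, ?_⟩
    have hpos : 0 < Nat.card ↥((⨆ a, LL X (β a)) ⊓ T) := Nat.card_pos
    refine Nat.eq_of_mul_eq_mul_right hpos ?_
    rw [h1]; ring
  have hidx : ¬ 2 ∣ ((⨆ a, LL X (β a)) ⊔ NP R P).index := by
    intro h2
    have hne : Nat.card ↥((⨆ a, LL X (β a)) ⊔ NP R P) ≠ 0 := Nat.card_pos.ne'
    have h3 : 2 ^ ((Nat.card ↥((⨆ a, LL X (β a)) ⊔ NP R P)).factorization 2 + 1) ∣ Nat.card Y := by
      rw [← Subgroup.card_mul_index ((⨆ a, LL X (β a)) ⊔ NP R P), pow_succ]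
      exact mul_dvd_mul (Nat.ordProj_dvd _ 2) h2
    exact Nat.pow_succ_factorization_not_dvd hne Nat.prime_two ((hord _ h3).trans hcard)
  rwa [← Nat.not_even_iff_odd, even_iff_two_dvd]

/-- `E` has an abelianization of odd order. -/
theorem odd_E [Fact p.Prime] (hp2 : Odd p) : Odd (Nat.card (Abelianization ↥(⨆ a, LL X (β a)))) := by
  classical
  set E := ⨆ a, LL X (β a) with hE
  refine odd_abelianization (p := p) hp2 (S := {x : E | ∃ z, IsRoot cs h z ∧ (x : Y) ∈ X z}) ?_ ?_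
  · have h1 : ∀ a, X (β a) ≤ E := fun a => (X_le_LL (β a)).trans (le_iSup (fun a => LL X (β a)) a)
    have h2 : ∀ a, X (-β a) ≤ E := fun a => (X_neg_le_LL (β a)).trans (le_iSup (fun a => LL X (β a)) a)
    have key : E ≤ (Subgroup.closure {x : E | ∃ z, IsRoot cs h z ∧ (x : Y) ∈ X z}).map E.subtype := by
      conv_lhs => rw [hE]
      refine iSup_le fun a => sup_le ?_ ?_
      · intro u hu
        exact ⟨⟨u, h1 a hu⟩, Subgroup.subset_closure ⟨β a, F.root a, hu⟩, rfl⟩
      · intro u hu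
        exact ⟨⟨u, h2 a hu⟩, Subgroup.subset_closure ⟨-β a, (F.root a).neg, hu⟩, rfl⟩
    rw [eq_top_iff]
    rintro ⟨x, hx⟩ -
    obtain ⟨y, hy, e⟩ := key hx
    have : y = ⟨x, hx⟩ := Subtype.ext e
    rw [← this]
    exact hy
  · rintro x ⟨z, hz, hxz⟩
    obtain ⟨k, hk⟩ := R.pgrp' hz ⟨x, hxz⟩
    have hk' : (x : Y) ^ p ^ k = 1 := congrArg (fun u : X z => (u : Y)) hk
    exact ⟨k, Subtype.ext hk'⟩

/-- **The frame lemma.** -/
theorem frame_elem [Fact p.Prime] (hp2 : Odd p) (hG : RGD.Sup X {x | IsRoot cs h x} = ⊤)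
    (hSL : ∀ i, IsSL (LL X (sr i))) (hP : IsPGroup 2 ↥P) {Γ : Set W} (hPΓ : P = Subgroup.closure Γ)
    (hT : ∀ t ∈ T, t * t ∈ ⨆ a, LL X (β a))
    (hΓ : ∀ w ∈ Γ, ∃ g, Rp cs R.nsys w g ∧ g * g ∈ ⨆ a, LL X (β a))
    (hord : ∀ m : ℕ, 2 ^ m ∣ Nat.card Y → 2 ^ m ∣ Nat.card T * Nat.card P * ∏ a, (Nat.card (X (β a)) + 1)) :
    Elem Y := by
  classical
  set E := ⨆ a, LL X (β a) with hE
  have hSL' : ∀ x, IsRoot cs h x → IsSL (LL X x) := fun x hx => isSL_of_root R hSL hx
  have hn : NP R P ≤ Subgroup.normalizer (E : Set Y) := NP_le_normalizer R F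
  have hEE : Elem ↥E := elem_iSup (fun a => elem_of_isSL (hSL' _ (F.root a))) F.orth
  refine elem_of_odd_index (E ⊔ NP R P) (odd_index R F hG hSL hord) ?_
  have hEM : E ≤ E ⊔ NP R P := le_sup_left
  have hNM : NP R P ≤ E ⊔ NP R P := le_sup_right
  have hnorm : (E.subgroupOf (E ⊔ NP R P)).Normal :=
    (Subgroup.normal_subgroupOf_iff_le_normalizer hEM).2 (sup_le Subgroup.le_normalizer hn)
  have e : E.subgroupOf (E ⊔ NP R P) ≃* E := Subgroup.subgroupOfEquivOfLe hEM
  have hodd := odd_E R F hp2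
  rw [← hE] at hodd
  -- the decomposition of the elements
  have hdec : ∀ x ∈ E ⊔ NP R P, ∃ y ∈ E, ∃ g ∈ NP R P, x = y * g := by
    intro x hx
    have hx' : x ∈ ((E ⊔ NP R P : Subgroup Y) : Set Y) := hx
    rw [Subgroup.coe_mul_of_right_le_normalizer_left _ _ hn, Set.mem_mul] at hx'
    obtain ⟨y, hy, z, hz, rfl⟩ := hx'
    exact ⟨y, hy, z, hz, rfl⟩
  refine elem_of_normal (E.subgroupOf (E ⊔ NP R P)) (elem_of_surjective e.symm.toMonoidHom e.symm.surjective hEE) ?_ ?_
  · -- the quotient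
    have hq : ∀ (x : ↥(E ⊔ NP R P)), (x : Y) ∈ E → (QuotientGroup.mk' (E.subgroupOf (E ⊔ NP R P))) x = 1 := by
      intro x hx
      exact (QuotientGroup.eq_one_iff x).2 (Subgroup.mem_subgroupOf.2 hx)
    refine elem_of_isPGroup ?_ ?_
    · intro y
      obtain ⟨⟨x, hx⟩, rfl⟩ := QuotientGroup.mk'_surjective _ y
      obtain ⟨a, ha, g, hg, rfl⟩ := hdec x hx
      obtain ⟨w, hw, hgw⟩ := hg
      obtain ⟨k, hk⟩ := hP ⟨w, hw⟩
      have hk' : w ^ 2 ^ k = 1 := congrArg Subtype.val hk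
      have hpow : ∀ m : ℕ, Rp cs R.nsys (w ^ m) (g ^ m) := by
        intro m
        induction m with
        | zero => rw [pow_zero, pow_zero]; exact rp_one
        | succ m ih => rw [pow_succ, pow_succ]; exact ih.mul hgw
      have h1 : g ^ 2 ^ k ∈ T := by
        have := hpow (2 ^ k)
        rw [hk'] at this
        exact this.mem_of_one
      have h2 : g ^ 2 ^ (k + 1) ∈ E := by
        rw [pow_succ, pow_mul, pow_two]
        exact hT _ h1
      refine ⟨k + 1, ?_⟩
      have h3 : (⟨a * g, hx⟩ : ↥(E ⊔ NP R P)) = ⟨a, hEM ha⟩ * ⟨g, hNM ⟨w, hw, hgw⟩⟩ := rfl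
      rw [h3, map_mul, hq ⟨a, hEM ha⟩ ha, one_mul, ← map_pow]
      exact hq _ h2
    · intro f
      -- the elements on which `f` has square one
      let S : Subgroup ↥(E ⊔ NP R P) :=
        ((powMonoidHom 2 : ℂˣ →* ℂˣ).comp (f.comp (QuotientGroup.mk' (E.subgroupOf (E ⊔ NP R P))))).ker
      have hS : ∀ x : ↥(E ⊔ NP R P), x ∈ S ↔ f (QuotientGroup.mk' (E.subgroupOf (E ⊔ NP R P)) x) ^ 2 = 1 :=
        fun x => Iff.rfl
      have hSE : ∀ x : ↥(E ⊔ NP R P), (x : Y) * x ∈ E → x ∈ S := by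
        intro x hx
        rw [hS, ← map_pow, ← map_pow, hq (x ^ 2) (by rw [pow_two]; exact hx), map_one]
      have hNS : ∀ w ∈ Subgroup.closure Γ, ∀ g (hg : g ∈ NP R P), Rp cs R.nsys w g → (⟨g, hNM hg⟩ : ↥(E ⊔ NP R P)) ∈ S := by
        intro w hw
        induction hw using Subgroup.closure_induction with
        | mem w hw =>
          intro g hg hgr
          obtain ⟨g0, hg0, hsq⟩ := hΓ w hw
          have hg0N : g0 ∈ NP R P := ⟨w, by rw [hPΓ]; exact Subgroup.subset_closure hw, hg0⟩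
          have ht : g0⁻¹ * g ∈ T := hg0.unique hgr
          have h3 : (⟨g, hNM hg⟩ : ↥(E ⊔ NP R P)) = ⟨g0, hNM hg0N⟩ * ⟨g0⁻¹ * g, hNM (T_le_NP R ht)⟩ :=
            Subtype.ext (by show g = g0 * (g0⁻¹ * g); group)
          rw [h3]
          exact S.mul_mem (hSE _ hsq) (hSE _ (hT _ ht))
        | one =>
          intro g hg hgr
          exact hSE _ (hT _ hgr.mem_of_one)
        | mul w1 w2 hw1 hw2 h1 h2 =>
          intro g hg hgr
          obtain ⟨g2, hr2⟩ := exists_rp cs R.nsys w2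
          have hg2N : g2 ∈ NP R P := ⟨w2, by rw [hPΓ]; exact hw2, hr2⟩
          have h3 : Rp cs R.nsys w1 (g * g2⁻¹) := by
            have := hgr.mul hr2.inv
            rwa [mul_inv_cancel_right] at this
          have hg1N : g * g2⁻¹ ∈ NP R P := mul_mem hg (inv_mem hg2N)
          have h4 : (⟨g, hNM hg⟩ : ↥(E ⊔ NP R P)) = ⟨g * g2⁻¹, hNM hg1N⟩ * ⟨g2, hNM hg2N⟩ :=
            Subtype.ext (by show g = g * g2⁻¹ * g2; group)
          rw [h4]
          exact S.mul_mem (h1 _ hg1N h3) (h2 _ hg2N hr2)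
        | inv w hw h1 =>
          intro g hg hgr
          have hr : Rp cs R.nsys w g⁻¹ := by
            have := hgr.inv
            rwa [inv_inv] at this
          have h2 := S.inv_mem (h1 g⁻¹ (inv_mem hg) hr)
          have h3 : (⟨g⁻¹, hNM (inv_mem hg)⟩ : ↥(E ⊔ NP R P))⁻¹ = ⟨g, hNM hg⟩ := Subtype.ext (inv_inv g)
          rwa [h3] at h2
      intro y
      obtain ⟨⟨x, hx⟩, rfl⟩ := QuotientGroup.mk'_surjective _ y
      rw [← hS]
      obtain ⟨a, ha, g, hg, rfl⟩ := hdec x hx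
      obtain ⟨w, hw, hgw⟩ := id hg
      have h3 : (⟨a * g, hx⟩ : ↥(E ⊔ NP R P)) = ⟨a, hEM ha⟩ * ⟨g, hNM hg⟩ := rfl
      rw [h3]
      exact S.mul_mem (hSE _ (mul_mem ha ha)) (hNS w (by rw [← hPΓ]; exact hw) g hg hgw)
  · rw [Nat.card_congr (MulEquiv.abelianizationCongr e).toEquiv]
    exact hodd

end frame

end Cfsg.Agent.H775.Sd.FrameElem
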