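import Mathlib
import Cfsg.Agent.ClosedExc.Rows
import Cfsg.Agent.H557.LrChev

/-!
# Squares of torus elements and of products of orthogonal reflections (S4579, helper775)

* `torus_sq` : `t * t ∈ E` for the elements `t` of the torus, if `-1` is represented in `E`;
* `exists_lift` : the product of orthogonal reflections has a representative with a square acting on the root groups by known
  signs;
* `sgn_ext` : sign elements are determined by the signs.
-/

set_option autoImplicit false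
set_option linter.unusedSectionVars false

namespace Cfsg.Agent.H775.Sd.Sgn

open CoxeterSystem Cfsg.Agent.ChevalleyStructure.CoxeterGeom Cfsg.Agent.Tits.Roots Cfsg.Agent.Tits.Core
  Cfsg.Agent.Nodes.Reps Cfsg.Agent.Nodes.BNOf Cfsg.Agent.Nodes.Bruhat Cfsg.Agent.Nodes.FreeTorus
  Cfsg.Agent.ClosedExc Cfsg.Agent.ClosedExc.Rk Cfsg.Agent.ClosedExc.Frame Cfsg.Agent.KFacts.RgdField
  Cfsg.Agent.BpExc.TorCent Cfsg.Agent.H557.LrSgn

section gen

variable {I W Y : Type*} [Fintype I] [DecidableEq I] [Group W] [Group Y] {M : CoxeterMatrix I}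
  {cs : CoxeterSystem M W} {C : I → I → ℤ} {h : IsCartan M C} {p : ℕ} {T : Subgroup Y} {n : I → Y}
  {X : (I → ℤ) → Subgroup Y}

/-- an element centralising the root groups is trivial -/
theorem eq_one_of_comm (hG : RGD.Sup X {x | IsRoot cs h x} = ⊤) (hZ : ∀ z : Y, (∀ y, z * y = y * z) → z = 1) {z : Y}
    (hz : ∀ a, IsRoot cs h a → ∀ u ∈ X a, z * u = u * z) : z = 1 := by
  refine hZ z fun y => ?_
  have h1 : RGD.Sup X {x | IsRoot cs h x} ≤ Subgroup.centralizer ({z} : Set Y) := by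
    refine RGD.Sup_le fun a ha u hu => ?_
    rw [Subgroup.mem_centralizer_singleton_iff]
    exact (hz a ha u hu).symm
  rw [hG] at h1
  exact (Subgroup.mem_centralizer_singleton_iff.1 (h1 (Subgroup.mem_top y))).symm

section torus

variable {F : Type*} [Field F] {xx : (I → ℤ) → F → Y} {χ : (I → ℤ) → Y → F} (R : RGD cs h p T n X)

include R

/-- the squares of the elements of the torus -/
theorem torus_sq (Co : Coords cs h T n X xx χ) (hA : ChAdd cs h T χ) (hG : RGD.Sup X {x | IsRoot cs h x} = ⊤)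
    (hZ : ∀ z : Y, (∀ y, z * y = y * z) → z = 1) {E : Subgroup Y} (hTE : T ≤ Subgroup.normalizer (E : Set Y))
    {w : W} (hw : ∀ x, rep cs h w x = -x) {e : Y} (he : Rp cs R.nsys w e) (heE : e ∈ E) {t : Y} (ht : t ∈ T) :
    t * t ∈ E := by
  have ht' : e * t * e⁻¹ ∈ T := (Subgroup.mem_normalizer_iff.1 he.mem_normalizer t).1 ht
  have h1 : e * t * e⁻¹ * t = 1 := by
    refine eq_one_of_comm hG hZ fun a ha u hu => ?_
    obtain ⟨φ, h0, hadd, hφ⟩ := hA t ht
    have h2 : χ a (e * t * e⁻¹) = χ (-a) t := by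
      have h3 := Co.chi_rp R.nsys he ha.neg ht
      rw [hw, neg_neg] at h3
      exact h3
    have h4 : χ a (e * t * e⁻¹) * χ a t = 1 := by
      rw [h2, hφ a ha, hφ _ ha.neg, ← hadd, neg_add_cancel, h0]
    obtain ⟨b, rfl⟩ := ((Co.coord a ha).mem u).1 hu
    have h5 := (Co.coord a ha).act t ht b
    have h6 := (Co.coord a ha).act _ ht' (χ a t * b)
    have h7 : e * t * e⁻¹ * t * xx a b * (e * t * e⁻¹ * t)⁻¹ = xx a b := by
      calc e * t * e⁻¹ * t * xx a b * (e * t * e⁻¹ * t)⁻¹ = e * t * e⁻¹ * (t * xx a b * t⁻¹) * (e * t * e⁻¹)⁻¹ := by group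
        _ = xx a b := by rw [h5, h6, ← mul_assoc, h4, one_mul]
    exact mul_inv_eq_iff_eq_mul.1 h7
  have h3 : t * t = t * e * t⁻¹ * e⁻¹ := by
    have h4 : t = e * t⁻¹ * e⁻¹ := by
      have h5 := eq_inv_of_mul_eq_one_right h1
      have h6 : (e * t * e⁻¹)⁻¹ = e * t⁻¹ * e⁻¹ := by group
      exact h5.trans h6
    calc t * t = t * (e * t⁻¹ * e⁻¹) := by rw [← h4]
      _ = t * e * t⁻¹ * e⁻¹ := by group
  rw [h3]
  exact mul_mem ((Subgroup.mem_normalizer_iff.1 (hTE ht) e).1 heE) (inv_mem heE)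

end torus

/-! ### sign elements -/

theorem sgn_one : SgnEl cs h T X 0 (1 : Y) where
  mem := one_mem _
  fix a _ _ u _ := by rw [one_mul, mul_one]
  inv a _ h0 u _ := absurd rfl h0

theorem sgn_mul {φ ψ : (I → ℤ) →+ ZMod 2} {y z : Y} (hy : SgnEl cs h T X φ y) (hz : SgnEl cs h T X ψ z) :
    SgnEl cs h T X (φ + ψ) (y * z) where
  mem := mul_mem hy.mem hz.mem
  fix a ha h0 u hu := by
    rw [AddMonoidHom.add_apply] at h0
    by_cases h1 : φ a = 0
    · rw [h1, zero_add] at h0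
      rw [mul_assoc, hz.fix a ha h0 u hu, ← mul_assoc, hy.fix a ha h1 u hu, mul_assoc]
    · have h2 : ψ a ≠ 0 := fun h2 => h1 (by rw [h2, add_zero] at h0; exact h0)
      have h3 := hz.inv a ha h2 u hu
      have h4 := hy.inv a ha h1 _ (inv_mem hu)
      rw [inv_inv] at h4
      have h5 : y * z * u * (y * z)⁻¹ = u := by
        calc y * z * u * (y * z)⁻¹ = y * (z * u * z⁻¹) * y⁻¹ := by group
          _ = u := by rw [h3, h4]
      exact mul_inv_eq_iff_eq_mul.1 h5
  inv a ha h0 u hu := by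
    rw [AddMonoidHom.add_apply] at h0
    have h6 : y * z * u * (y * z)⁻¹ = y * (z * u * z⁻¹) * y⁻¹ := by group
    rw [h6]
    by_cases h1 : φ a = 0
    · rw [h1, zero_add] at h0
      rw [hz.inv a ha h0 u hu, hy.fix a ha h1 _ (inv_mem hu), mul_inv_cancel_right]
    · have h2 : ψ a = 0 := by
        by_contra h2
        rw [zmod2_cases _ h1, zmod2_cases _ h2] at h0
        exact h0 (by decide)
      rw [hz.fix a ha h2 u hu, mul_inv_cancel_right, hy.inv a ha h1 u hu]

/-- sign elements are determined by the signs -/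
theorem sgn_ext (hG : RGD.Sup X {x | IsRoot cs h x} = ⊤) (hZ : ∀ z : Y, (∀ y, z * y = y * z) → z = 1)
    {φ : (I → ℤ) →+ ZMod 2} {y z : Y} (hy : SgnEl cs h T X φ y) (hz : SgnEl cs h T X φ z) : y = z := by
  have h1 : z⁻¹ * y = 1 := by
    refine eq_one_of_comm hG hZ fun a ha u hu => ?_
    have h2 : y * u * y⁻¹ = z * u * z⁻¹ := by
      by_cases h1 : φ a = 0
      · rw [hy.fix a ha h1 u hu, hz.fix a ha h1 u hu, mul_inv_cancel_right, mul_inv_cancel_right]
      · rw [hy.inv a ha h1 u hu, hz.inv a ha h1 u hu]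
    have h3 : z⁻¹ * y * u * (z⁻¹ * y)⁻¹ = u := by
      calc z⁻¹ * y * u * (z⁻¹ * y)⁻¹ = z⁻¹ * (y * u * y⁻¹) * z := by group
        _ = u := by rw [h2]; group
    exact mul_inv_eq_iff_eq_mul.1 h3
  exact (inv_mul_eq_one.1 h1).symm

variable (R : RGD cs h p T n X)

include R

/-- conjugates of lifted reflections -/
theorem lift_conj {x : I → ℤ} (hx : IsRoot cs h x) {w : W} {φ : (I → ℤ) →+ ZMod 2}
    (hw : ∃ m ∈ LL X x, Rp cs R.nsys w m ∧ SgnEl cs h T X φ (m * m)) (v : W) :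
    ∃ m ∈ LL X (rep cs h v x), Rp cs R.nsys (v * w * v⁻¹) m ∧
      SgnEl cs h T X (φ.comp (rep cs h v⁻¹).toAddMonoidHom) (m * m) := by
  obtain ⟨m, hm, hr, hs⟩ := hw
  obtain ⟨k, hk⟩ := exists_rp cs R.nsys v
  refine ⟨k * m * k⁻¹, ?_, (hk.mul hr).mul hk.inv, ?_⟩
  · rw [← rp_cj_LL R hk hx]
    exact conj_mem_cj.2 hm
  · have h1 : k * m * k⁻¹ * (k * m * k⁻¹) = k * (m * m) * k⁻¹ := by group
    rw [h1]
    exact hs.conj R hk

end gen

section fin

open Cfsg.Agent.ClosedExc.WFr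

variable {l : ℕ} {W Y : Type*} [Group W] [Group Y] {M : CoxeterMatrix (Fin l)}
  {cs : CoxeterSystem M W} {C : Fin l → Fin l → ℤ} {h : IsCartan M C} {p : ℕ} {T : Subgroup Y} {n : Fin l → Y}
  {X : (Fin l → ℤ) → Subgroup Y} {AL : List (List ℤ)}

/-- the parity of the pairing with a root -/
def ph (C : Fin l → Fin l → ℤ) (i : Fin l) : (Fin l → ℤ) →+ ZMod 2 where
  toFun x := ((pairing C i x : ℤ) : ZMod 2)
  map_zero' := by simp [pairing]
  map_add' x y := by
    rw [← Int.cast_add]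
    congr 1
    simp only [pairing, Pi.add_apply, mul_add, Finset.sum_add_distrib]

/-- the parity of the pairing with the root of `p` -/
def par (cs : CoxeterSystem M W) (h : IsCartan M C) (p : List ℕ × ℕ) : (Fin l → ℤ) →+ ZMod 2 :=
  if hi : p.2 < l then (ph C ⟨p.2, hi⟩).comp (rep cs h (wd cs p.1)⁻¹).toAddMonoidHom else 0

/-- computable version -/
def parZ (AL : List (List ℤ)) (l j : ℕ) (p : List ℕ × ℕ) : ℤ := dot (AL.getD p.2 []) (act AL p.1.reverse (ei l j))

theorem pairing_toV (hA : IsTab C AL) (i : Fin l) {x : List ℤ} (hx : x.length = l) :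
    pairing C i (toV l x) = dot (AL.getD i []) x := by
  have h1 : (AL.getD i []).length = l := by
    rw [List.getD_eq_getElem _ _ (by rw [hA.len]; exact i.2)]
    exact hA.len' _ (List.getElem_mem _)
  rw [dot_eq h1 hx, pairing]
  exact Finset.sum_congr rfl fun k _ => by rw [hA.eq, toV_apply]

theorem par_sr (hA : IsTab C AL) {p : List ℕ × ℕ} (hi : p.2 < l) (j : Fin l) :
    par cs h p (sr j) = ((parZ AL l j p : ℤ) : ZMod 2) := by
  rw [par, dif_pos hi]
  show ((pairing C ⟨p.2, hi⟩ (rep cs h (wd cs p.1)⁻¹ (sr j)) : ℤ) : ZMod 2) = _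
  rw [← wd_reverse cs, ← toV_ei j, rep_wd cs h hA (ei_length l j),
    pairing_toV hA ⟨p.2, hi⟩ (by rw [act_length, ei_length])]
  rfl

variable (R : RGD cs h p T n X)

include R

/-- the lift of one reflection -/
theorem lift_one (hA : IsTab C AL)
    (hs : ∀ i, ∃ m ∈ LL X (sr i), Rp cs R.nsys (cs.simple i) m ∧ SgnEl cs h T X (ph C i) (m * m))
    {p : List ℕ × ℕ} (hi : p.2 < l) :
    ∃ m ∈ LL X (toV l (rootOf AL l p)), Rp cs R.nsys (wd cs (rw' p)) m ∧ SgnEl cs h T X (par cs h p) (m * m) := by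
  have h1 := lift_conj R (isRoot_sr cs h ⟨p.2, hi⟩) (hs ⟨p.2, hi⟩) (wd cs p.1)
  have h2 : rep cs h (wd cs p.1) (sr ⟨p.2, hi⟩) = toV l (rootOf AL l p) := by
    rw [rootOf, ← rep_wd cs h hA (ei_length l p.2)]
    exact congrArg _ (toV_ei ⟨p.2, hi⟩).symm
  have h3 : wd cs (rw' p) = wd cs p.1 * cs.simple ⟨p.2, hi⟩ * (wd cs p.1)⁻¹ := by
    rw [rw', wd_append, wd, dif_pos hi, wd_reverse, mul_assoc]
  rw [h2] at h1
  rw [h3, par, dif_pos hi]
  exact h1

/-- **The lift of a product of orthogonal reflections.** -/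
theorem exists_lift (hA : IsTab C AL)
    (hs : ∀ i, ∃ m ∈ LL X (sr i), Rp cs R.nsys (cs.simple i) m ∧ SgnEl cs h T X (ph C i) (m * m)) :
    ∀ g : List (List ℕ × ℕ), (∀ p ∈ g, p.2 < l) →
      g.Pairwise (fun p q => LC X (toV l (rootOf AL l p)) (toV l (rootOf AL l q))) →
      ∃ m, Rp cs R.nsys (wd cs (fw g)) m ∧ SgnEl cs h T X (g.map (par cs h)).sum (m * m) ∧
        ∀ H : Subgroup Y, (∀ p ∈ g, LL X (toV l (rootOf AL l p)) ≤ H) → m ∈ H
  | [], _, _ => ⟨1, rp_one, by rw [mul_one]; exact sgn_one, fun H _ => one_mem H⟩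
  | p :: g, hg, hp => by
    obtain ⟨m', hr', hs', hH'⟩ := exists_lift hA hs g (fun q hq => hg q (List.mem_cons_of_mem _ hq))
      (List.pairwise_cons.1 hp).2
    obtain ⟨m, hm, hr, hsm⟩ := lift_one R hA hs (hg p List.mem_cons_self)
    have hc : m' ∈ Subgroup.centralizer ({m} : Set Y) := by
      refine hH' _ fun q hq x hx => ?_
      rw [Subgroup.mem_centralizer_singleton_iff]
      exact ((List.pairwise_cons.1 hp).1 q hq m hm x hx).eq.symm
    rw [Subgroup.mem_centralizer_singleton_iff] at hc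
    refine ⟨m * m', ?_, ?_, fun H hH => ?_⟩
    · have h1 : fw (p :: g) = rw' p ++ fw g := by rw [fw, List.flatMap_cons, fw]
      rw [h1, wd_append]
      exact hr.mul hr'
    · rw [List.map_cons, List.sum_cons]
      have h1 : m * m' * (m * m') = m * m * (m' * m') := by
        calc m * m' * (m * m') = m * (m' * m) * m' := by group
          _ = m * m * (m' * m') := by rw [hc]; group
      rw [h1]
      exact sgn_mul hsm hs'
    · exact mul_mem (hH p List.mem_cons_self hm) (hH' H fun q hq => hH q (List.mem_cons_of_mem _ hq))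

/-- products of squares of lifted reflections -/
theorem exists_sq (hA : IsTab C AL)
    (hs : ∀ i, ∃ m ∈ LL X (sr i), Rp cs R.nsys (cs.simple i) m ∧ SgnEl cs h T X (ph C i) (m * m))
    {E : Subgroup Y} :
    ∀ g : List (List ℕ × ℕ), (∀ p ∈ g, p.2 < l) → (∀ p ∈ g, LL X (toV l (rootOf AL l p)) ≤ E) →
      ∃ z ∈ E, SgnEl cs h T X (g.map (par cs h)).sum z
  | [], _, _ => ⟨1, one_mem _, sgn_one⟩
  | p :: g, hg, hE => by
    obtain ⟨z, hz, hz'⟩ := exists_sq hA hs g (fun q hq => hg q (List.mem_cons_of_mem _ hq))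
      (fun q hq => hE q (List.mem_cons_of_mem _ hq))
    obtain ⟨m, hm, hr, hsm⟩ := lift_one R hA hs (hg p List.mem_cons_self)
    have hmE := hE p List.mem_cons_self hm
    refine ⟨m * m * z, mul_mem (mul_mem hmE hmE) hz, ?_⟩
    rw [List.map_cons, List.sum_cons]
    exact sgn_mul hsm hz'

omit R in
/-- two sums of parities -/
theorem sum_par_eq (hA : IsTab C AL) {g g' : List (List ℕ × ℕ)} (hg : ∀ p ∈ g, p.2 < l) (hg' : ∀ p ∈ g', p.2 < l)
    (he : ∀ j < l, ((g.map (parZ AL l j)).sum + (g'.map (parZ AL l j)).sum) % 2 = 0) :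
    (g.map (par cs h)).sum = (g'.map (par cs h)).sum := by
  have h1 : ∀ (L : List (List ℕ × ℕ)), (∀ p ∈ L, p.2 < l) → ∀ j : Fin l,
      (L.map (par cs h)).sum (sr j) = (((L.map (parZ AL l j)).sum : ℤ) : ZMod 2) := by
    intro L
    induction L with
    | nil => intro _ j; simp
    | cons p L ih =>
      intro hL j
      rw [List.map_cons, List.sum_cons, List.map_cons, List.sum_cons, AddMonoidHom.add_apply, Int.cast_add,
        ih (fun q hq => hL q (List.mem_cons_of_mem _ hq)), par_sr hA (hL p List.mem_cons_self)]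
  have h2 : ∀ j : Fin l, (g.map (par cs h)).sum (sr j) = (g'.map (par cs h)).sum (sr j) := by
    intro j
    rw [h1 g hg, h1 g' hg']
    have h3 := he j j.2
    have h4 : (((g.map (parZ AL l j)).sum : ℤ) : ZMod 2) + (((g'.map (parZ AL l j)).sum : ℤ) : ZMod 2) = 0 := by
      rw [← Int.cast_add, ZMod.intCast_zmod_eq_zero_iff_dvd]
      exact Int.dvd_of_emod_eq_zero h3
    have h5 := eq_neg_of_add_eq_zero_left h4
    rw [h5, neg_zmod2]
  refine DFunLike.ext _ _ fun x => ?_
  rw [H557.LrOrb.eq_sum_sr x, map_sum, map_sum]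
  refine Finset.sum_congr rfl fun k _ => ?_
  rw [map_zsmul, map_zsmul, h2]

end fin

end Cfsg.Agent.H775.Sd.Sgn
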