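import Mathlib
import Cfsg.Agent.H775.Sd.Sgn
import Cfsg.Agent.H775.Sd.FrameElem
import Cfsg.Agent.S1054

/-!
# `Elem` for the Chevalley groups of type `E₇`, `E₈`, `F₄` in odd characteristic (S4579, helper775)

`elem_chev` : from a frame certificate (`ClosedExc.WFr.Cert`) of full rank, with parity checks (`Chk`).
-/

set_option autoImplicit false
set_option linter.unusedSectionVars false
set_option maxRecDepth 100000

namespace Cfsg.Agent.H775.Sd.ChevElem

open CoxeterSystem Cfsg.Agent.ChevalleyStructure.CoxeterGeom Cfsg.Agent.Tits.Roots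
  Cfsg.Agent.Nodes.Reps Cfsg.Agent.Nodes.BNOf Cfsg.Agent.Nodes.FreeTorus Cfsg.Agent.Nodes.Bruhat
open Cfsg.Lie Cfsg.Agent.ChevalleyStructure Cfsg.Agent.ChevalleyStructure.Elts
  Cfsg.Agent.ChevalleyStructure.NPerm Cfsg.Agent.Nodes.RGDChev Cfsg.Agent.ChevalleyStructure.CoxeterGeomTypes
open Cfsg.Agent.ClosedExc Cfsg.Agent.ClosedExc.Frame Cfsg.Agent.ClosedExc.WFr Cfsg.Agent.ClosedExc.Chev
open Cfsg.Agent.H557.LrSgn Cfsg.Agent.H775.Sd.Sgn Cfsg.Agent.H643.Sd
open Cfsg.Agent.KFacts.RgdChevCoord (nc xc ch coords)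

section frame

variable {l : ℕ} {W : Type*} [Group W] {M : CoxeterMatrix (Fin l)} (cs : CoxeterSystem M W)
  {C : Fin l → Fin l → ℤ} (h : IsCartan M C) {k N : ℕ} {c : Cert}

/-- the generators of the group of permutations -/
def Gm (cs : CoxeterSystem M W) (c : Cert) : Set W := {w | ∃ g ∈ c.G, w = wd cs (fw g.1)}

/-- `ClosedExc.WFr.wframe` with explicit data -/
theorem wframe' (hA : IsTab C c.AL) (hc : Ok l k N c) :
    (∀ a < k, IsRoot cs h (toV l (c.T.getD a []))) ∧
    (∀ w ∈ Subgroup.closure (Gm cs c), ∀ a : Fin k, ∃ b : Fin k, rep cs h w (toV l (c.T.getD a [])) = toV l (c.T.getD b []) ∨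
      rep cs h w (toV l (c.T.getD a [])) = -toV l (c.T.getD b [])) ∧
    (∀ w ∈ Subgroup.closure (Gm cs c), (∀ a : Fin k, rep cs h w (toV l (c.T.getD a [])) = toV l (c.T.getD a []) ∨
      rep cs h w (toV l (c.T.getD a [])) = -toV l (c.T.getD a [])) → w = 1) ∧
    Nat.card (Subgroup.closure (Gm cs c)) = N := by
  classical
  have hRel : ∀ g ∈ c.G, Rel cs h c.T (wd cs (fw g.1)) g.2 := by
    intro g hg
    refine ⟨(hc.gp g hg).1, (hc.gp g hg).2, fun a ha => ?_⟩
    rw [rep_wd cs h hA (hc.Tl _ (by rw [List.getD_eq_getElem _ _ ha]; exact List.getElem_mem _)), hc.ga g hg a ha]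
  have hinv : ∀ g ∈ c.G, (wd cs (fw g.1))⁻¹ = wd cs (fw g.1) := by
    intro g hg
    have h1 := (hRel g hg).mul (hRel g hg)
    rw [hc.gi g hg] at h1
    exact inv_eq_of_mul_eq_one_right (h1.unique hc.span Rel.one)
  set P : Subgroup W := Subgroup.closure (Gm cs c) with hP
  -- the elements of `P`
  have hP1 : ∀ w ∈ P, ∃ σ ∈ c.L, Rel cs h c.T w σ := by
    intro w hw
    induction hw using Subgroup.closure_induction_left with
    | one => exact ⟨_, range_mem_allProds _ _, Rel.one⟩
    | mul_left x hx y hy ih =>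
      obtain ⟨g, hg, rfl⟩ := hx
      obtain ⟨σ, hσ, hr⟩ := ih
      exact ⟨_, hc.Lg g hg σ hσ, (hRel g hg).mul hr⟩
    | inv_mul_cancel x hx y hy ih =>
      obtain ⟨g, hg, rfl⟩ := hx
      obtain ⟨σ, hσ, hr⟩ := ih
      rw [hinv g hg]
      exact ⟨_, hc.Lg g hg σ hσ, (hRel g hg).mul hr⟩
  -- all permutations occur
  have hH : ∀ w : List ℕ, (∀ g ∈ w, g < c.G.length) →
      ∃ v ∈ P, Rel cs h c.T v (hperm c.T.length (c.G.map Prod.snd) w) := by
    intro w
    induction w with
    | nil => exact fun _ => ⟨1, one_mem _, Rel.one⟩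
    | cons g w ih =>
      intro hw
      obtain ⟨v, hv, hr⟩ := ih fun a ha => hw a (List.mem_cons_of_mem _ ha)
      have hg := hw g List.mem_cons_self
      have hm := List.getElem_mem hg
      refine ⟨wd cs (fw (c.G[g]).1) * v, mul_mem (Subgroup.subset_closure ⟨_, hm, rfl⟩) hv, ?_⟩
      have h1 : (c.G.map Prod.snd).getD g [] = (c.G[g]).2 := by
        rw [List.getD_eq_getElem _ _ (by rwa [List.length_map]), List.getElem_map]
      rw [hperm, h1]
      exact (hRel _ hm).mul hr
  have hP2 : ∀ σ ∈ c.L, ∃ w ∈ P, Rel cs h c.T w σ := by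
    have key : ∀ Hs : List (List ℕ), (∀ π ∈ Hs, ∃ v ∈ P, Rel cs h c.T v π) →
        ∀ σ ∈ allProds c.T.length Hs, ∃ w ∈ P, Rel cs h c.T w σ := by
      intro Hs
      induction Hs with
      | nil =>
        intro _ σ hσ
        rw [allProds, List.mem_singleton] at hσ
        subst hσ
        exact ⟨1, one_mem _, Rel.one⟩
      | cons π t ih =>
        intro hπ σ hσ
        rw [allProds, List.mem_append] at hσ
        have ih' := ih fun π' h' => hπ π' (List.mem_cons_of_mem _ h')
        rcases hσ with hσ | hσ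
        · exact ih' σ hσ
        · obtain ⟨τ, hτ, rfl⟩ := List.mem_map.1 hσ
          obtain ⟨w, hw, hr⟩ := ih' τ hτ
          obtain ⟨v, hv, hr'⟩ := hπ π List.mem_cons_self
          exact ⟨v * w, mul_mem hv hw, hr'.mul hr⟩
    refine key _ fun π hπ => ?_
    obtain ⟨w, hw, rfl⟩ := List.mem_map.1 hπ
    exact hH w (hc.Hlt w hw)
  have hget : ∀ a < k, a < c.T.length := fun a ha => lt_of_lt_of_le ha hc.kle
  have hgl : ∀ a < c.T.length, (c.T.getD a []).length = l := fun a ha =>
    hc.Tl _ (by rw [List.getD_eq_getElem _ _ ha]; exact List.getElem_mem _)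
  refine ⟨?_, ?_, ?_, ?_⟩
  · intro a ha
    obtain ⟨h1, h2⟩ := hc.fr a ha
    rw [← h2]
    exact isRoot cs h hA h1
  · intro w hw a
    obtain ⟨σ, hσ, hr⟩ := hP1 w hw
    exact ⟨⟨σ.getD a 0, hc.Lk σ hσ a a.2⟩, Or.inl (hr.eq a (hget a a.2))⟩
  · intro w hw hfix
    obtain ⟨σ, hσ, hr⟩ := hP1 w hw
    have h1 : ∀ a < k, σ.getD a 0 = a := by
      intro a ha
      have h2 := hr.eq a (hget a ha)
      have h3 := hc.Lk σ hσ a ha
      rcases hfix ⟨a, ha⟩ with h4 | h4
      · have h5 := toV_inj (hgl _ (hget _ h3)) (hgl _ (hget a ha)) (h2.symm.trans h4)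
        exact getD_inj hc.Tn (hget _ h3) (hget a ha) h5
      · exfalso
        have h5 : toV l (c.T.getD (σ.getD a 0) []) = toV l ((c.T.getD a []).map fun x => -x) := by
          rw [toV_neg]; exact h2.symm.trans h4
        exact hc.neg _ h3 a ha (toV_inj (hgl _ (hget _ h3)) (by rw [List.length_map]; exact hgl _ (hget a ha)) h5)
    have h2 := hc.Lf σ hσ h1
    subst h2
    exact hr.unique hc.span Rel.one
  · -- the order
    let f : P → {σ // σ ∈ c.L} := fun w =>
      ⟨Classical.choose (hP1 w w.2), (Classical.choose_spec (hP1 w w.2)).1⟩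
    have hf : ∀ w : P, Rel cs h c.T (w : W) (f w).1 := fun w => (Classical.choose_spec (hP1 w w.2)).2
    have hbij : Function.Bijective f := by
      constructor
      · intro v w e
        have h1 := hf v
        rw [e] at h1
        exact Subtype.ext (h1.unique hc.span (hf w))
      · rintro ⟨σ, hσ⟩
        obtain ⟨w, hw, hr⟩ := hP2 σ hσ
        exact ⟨⟨w, hw⟩, Subtype.ext ((hf ⟨w, hw⟩).perm_unique hc.Tn hc.Tl hr)⟩
    rw [Nat.card_congr (Equiv.ofBijective f hbij)]
    have h1 : Nat.card {σ // σ ∈ c.L} = c.L.toFinset.card := by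
      have e : {σ // σ ∈ c.L} ≃ {σ // σ ∈ c.L.toFinset} := Equiv.subtypeEquivRight fun σ => List.mem_toFinset.symm
      rw [Nat.card_congr e, Nat.card_eq_fintype_card, Fintype.card_coe]
    rw [h1, List.toFinset_card_of_nodup hc.Ln, hc.Lc]

end frame

/-- the list of the roots of the frame -/
def frs (k : ℕ) (c : Cert) : List (List ℕ × ℕ) := (List.range k).map fun a => c.FR.getD a ([], 0)

/-- The additional checks: the sum of the coroots of each generator is the sum of the coroots of a part of the frame modulo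
two; the product of the reflections in the roots of the frame is `-1`. -/
structure Chk (l k : ℕ) (c : Cert) (SS : List (List ℕ)) : Prop where
  lt : ∀ S ∈ SS, ∀ a ∈ S, a < k
  par : ∀ g ∈ c.G, ∃ S ∈ SS, ∀ j < l, ((g.1.map (parZ c.AL l j)).sum +
    ((S.map fun a => c.FR.getD a ([], 0)).map (parZ c.AL l j)).sum) % 2 = 0
  neg : ∀ j < l, act c.AL (fw (frs k c)) (ei l j) = (ei l j).map fun x => -x

section main

variable {D : ChevalleyDatum} {l : ℕ} {M : CoxeterMatrix (Fin l)} (hp : IsType D l M) (K : Type) [Field K] [Fintype K]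

/-- the representatives of the simple reflections -/
theorem simple_lift (p : ℕ) [Fact p.Prime] [CharP K p] {W : Type*} [Group W] (cs : CoxeterSystem M W) (i : Fin l) :
    ∃ m ∈ LL (Chev.XX D l K) (sr i), Rp cs (rgd (K := K) hp cs p).nsys (cs.simple i) m ∧
      SgnEl cs hp.isCartan (TG D K) (Chev.XX D l K) (ph (cartanOf D l) i) (m * m) := by
  have h1 : OddHalf.LongSL.Chev.phi hp K i (SL2Hom.up 1 * SL2Hom.lo (-1) * SL2Hom.up 1) =
      ⟨nn hp K i, nn_mem_group hp i⟩ := Subtype.ext (Chev.phi_n hp K i)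
  refine ⟨OddHalf.LongSL.Chev.phi hp K i (SL2Hom.up 1 * SL2Hom.lo (-1) * SL2Hom.up 1), ?_, ?_, ?_⟩
  · rw [← Chev.range_phi hp K i]; exact ⟨_, rfl⟩
  · rw [h1]
    exact rp_simple cs _ i
  · rw [← map_mul, Chev.sq_eq]
    have h2 := H557.LrChev.sgnEl_zS hp K cs [i]
    have h3 : ph (cartanOf D l) i = H557.LrChev.csz (cartanOf D l) [i] := by
      refine DFunLike.ext _ _ fun x => ?_
      rw [H557.LrChev.csz_apply]
      show ((pairing (cartanOf D l) i x : ℤ) : ZMod 2) = _
      congr 1
      simp [GenExc.csv]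
    rw [h3]
    rw [GenExc.Chev.zS_cons, GenExc.Chev.zS_nil, mul_one] at h2
    exact h2

variable {K}

include hp

/-- **The Chevalley groups with a frame of full rank.** -/
theorem elem_chev (hK : Odd (Fintype.card K)) (hcen : ∀ z : ↥(D.group K), (∀ y, z * y = y * z) → z = 1)
    {W : Type*} [Group W] (cs : CoxeterSystem M W) {k s : ℕ} {c : Cert} {SS : List (List ℕ)}
    (hA : IsTab (cartanOf D l) c.AL) (hc : Ok l k (2 ^ s) c) (hk : Chk l k c SS)
    (hO1 : ∀ a < k, ∀ b < k, a ≠ b → Orth D l (toV l (c.T.getD a [])) (toV l (c.T.getD b [])))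
    (hO2 : ∀ g ∈ c.G, g.1.Pairwise fun p q => Orth D l (toV l (rootOf c.AL l p)) (toV l (rootOf c.AL l q)))
    (hord : ∀ m : ℕ, 2 ^ m ∣ Nat.card ↥(D.group K) →
      2 ^ m ∣ Nat.card ↥(D.diagonalSubgroup K) * 2 ^ s * (Fintype.card K + 1) ^ k) :
    Elem ↥(D.group K) := by
  classical
  obtain ⟨p, hpc⟩ := CharP.exists K
  have hpp : p.Prime := (CharP.char_is_prime_or_zero K p).resolve_right (CharP.char_ne_zero_of_finite K p)
  have : Fact p.Prime := ⟨hpp⟩
  have hfin : Finite W := finite_W hp cs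
  have hp2 : Odd p := by
    obtain ⟨n, -, hn⟩ := FiniteField.card K p
    rw [hn] at hK
    exact (Nat.odd_pow_iff n.pos.ne').1 hK
  have R := rgd (K := K) hp cs p
  obtain ⟨f1, f2, f3, f4⟩ := wframe' cs hp.isCartan hA hc
  have hT : Nat.card (TG D K) = Nat.card ↥(D.diagonalSubgroup K) :=
    Nat.card_congr (Subgroup.subgroupOfEquivOfLe (Cfsg.Agent.ChevalleyStructure.Elts.diagonal_le_group hp.inList K)).toEquiv
  have F : FrameData cs hp.isCartan (Chev.XX D l K) (fun a : Fin k => toV l (c.T.getD a [])) (Subgroup.closure (Gm cs c)) :=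
    ⟨fun a => f1 a a.2, fun a b hab => Chev.lc_of_orth hp K (hO1 a a.2 b b.2 fun e => hab (Fin.ext e)), f2, f3⟩
  have hG := G1_eq_top (K := K) hp cs
  have hs := simple_lift (K := K) hp p cs
  set E := ⨆ a : Fin k, LL (Chev.XX D l K) (toV l (c.T.getD a [])) with hE
  have hfrE : ∀ a < k, LL (Chev.XX D l K) (toV l (rootOf c.AL l (c.FR.getD a ([], 0)))) ≤ E := by
    intro a ha
    rw [(hc.fr a ha).2]
    exact le_iSup (fun a : Fin k => LL (Chev.XX D l K) (toV l (c.T.getD a []))) ⟨a, ha⟩
  have hNE : NP R (Subgroup.closure (Gm cs c)) ≤ Subgroup.normalizer (E : Set ↥(D.group K)) := NP_le_normalizer R F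
  refine FrameElem.frame_elem R F hp2 hG (fun i => Chev.isSL hp K hK i) (IsPGroup.of_card f4) rfl ?_ ?_ ?_
  · -- squares of the elements of the torus
    obtain ⟨e, he, -, heE⟩ := exists_lift R hA hs (frs k c) (fun p hp' => by
      obtain ⟨a, ha, rfl⟩ := List.mem_map.1 hp'
      exact (hc.fr a (List.mem_range.1 ha)).1) (by
      rw [frs, List.pairwise_map]
      refine List.Pairwise.imp_of_mem ?_ (List.nodup_range (n := k))
      intro a b ha hb hab
      rw [(hc.fr a (List.mem_range.1 ha)).2, (hc.fr b (List.mem_range.1 hb)).2]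
      exact Chev.lc_of_orth hp K (hO1 a (List.mem_range.1 ha) b (List.mem_range.1 hb) hab))
    have heE' : e ∈ E := heE E fun p hp' => by
      obtain ⟨a, ha, rfl⟩ := List.mem_map.1 hp'
      exact hfrE a (List.mem_range.1 ha)
    have hw : ∀ x, rep cs hp.isCartan (wd cs (fw (frs k c))) x = -x := by
      intro x
      have h1 : ∀ j : Fin l, rep cs hp.isCartan (wd cs (fw (frs k c))) (sr j) = -sr j := by
        intro j
        rw [← toV_ei j, rep_wd cs hp.isCartan hA (ei_length l j), hk.neg j j.2, toV_neg]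
      conv_lhs => rw [H557.LrOrb.eq_sum_sr x]
      conv_rhs => rw [H557.LrOrb.eq_sum_sr x]
      rw [map_sum, ← Finset.sum_neg_distrib]
      refine Finset.sum_congr rfl fun j _ => ?_
      rw [map_smul, h1, smul_neg]
    intro t ht
    exact torus_sq R (coords (K := K) hp cs p) (BpExc.TorChev.chAdd (K := K) hp cs p) hG hcen
      ((T_le_NP R).trans hNE) hw he heE' ht
  · -- the generators
    rintro w ⟨g, hg, rfl⟩
    obtain ⟨m, hm, hm2, -⟩ := exists_lift R hA hs g.1 (hc.gl g hg)
      ((hO2 g hg).imp fun ho => Chev.lc_of_orth hp K ho)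
    obtain ⟨S, hS, hpar⟩ := hk.par g hg
    have hSl : ∀ p ∈ S.map fun a => c.FR.getD a ([], 0), p.2 < l := by
      intro p hp'
      obtain ⟨a, ha, rfl⟩ := List.mem_map.1 hp'
      exact (hc.fr a (hk.lt S hS a ha)).1
    obtain ⟨z, hz, hz2⟩ := exists_sq R hA hs (E := E) (S.map fun a => c.FR.getD a ([], 0)) hSl (fun p hp' => by
      obtain ⟨a, ha, rfl⟩ := List.mem_map.1 hp'
      exact hfrE a (hk.lt S hS a ha))
    refine ⟨m, hm, ?_⟩
    rw [sum_par_eq hA (hc.gl g hg) hSl hpar] at hm2
    rw [sgn_ext hG hcen hm2 hz2]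
    exact hz
  · intro m hm
    have h8 := hord m hm
    have h9 : ∀ a : Fin k, Nat.card (Chev.XX D l K (toV l (c.T.getD a []))) = Fintype.card K :=
      fun a => Chev.card_XX hp K cs (f1 a a.2)
    rw [hT, f4]
    simp only [h9, Finset.prod_const, Finset.card_univ, Fintype.card_fin]
    exact h8

end main

/-! ### the rows -/

section rows

open Cfsg.Agent.ClosedExc.Families

theorem chkE7 : Chk 7 7 cE7 [[3], [6]] where
  lt := by decide +kernel
  par := by decide +kernel
  neg := by decide +kernel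

theorem chkE8 : Chk 8 8 cE8 [[1, 2], [0, 4]] where
  lt := by decide +kernel
  par := by decide +kernel
  neg := by decide +kernel

theorem chkF4 : Chk 4 4 cF4 [[0, 1], [0, 2]] where
  lt := by decide +kernel
  par := by decide +kernel
  neg := by decide +kernel

theorem cen_of_simple {G : Type*} [Group G] (h : IsSimpleGroup G ∧ ¬ IsMulCommutative G) :
    ∀ z : G, (∀ y, z * y = y * z) → z = 1 := by
  have := h.1
  intro z hz
  have h2 : z ∈ Subgroup.center G := Subgroup.mem_center_iff.2 fun y => (hz y).symm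
  rcases (inferInstance : (Subgroup.center G).Normal).eq_bot_or_eq_top with h1 | h1
  · rw [h1, Subgroup.mem_bot] at h2
    exact h2
  · exfalso
    apply h.2
    exact ⟨⟨fun a b => by
      have h2 : a ∈ Subgroup.center G := by rw [h1]; exact Subgroup.mem_top a
      exact (Subgroup.mem_center_iff.1 h2 b).symm⟩⟩

variable (K : Type) [Field K] [Fintype K] (hK : Odd (Fintype.card K))

include hK

theorem elem_chevE7 : Elem ↥(chevE7.group K) :=
  elem_chev isType_E7 hK (cen_of_simple (S1054.result chevE7 (by simp))) CoxeterMatrix.E₇.toCoxeterSystem (s := 3)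
    tabE7 okE7 chkE7 (fun a ha b hb hab => orth_of (orth1E7 a ha b hb hab))
    (fun g hg => (orth2E7 g hg).imp fun h => orth_of h)
    (Orders.ord_E7 hK (three_le hK) (Nat.gcd_pos_of_pos_left _ (by norm_num)).ne' (S1064.result (F := K) rfl)
      (S1035.result (F := K) rfl (chevE7, Nat.gcd 2 (Fintype.card K - 1)) (by simp)))

theorem elem_chevE8 : Elem ↥(chevE8.group K) := by
  have hT := S1035.result (F := K) rfl (chevE8, 1) (by simp)
  rw [one_mul] at hT
  exact elem_chev isType_E8 hK (cen_of_simple (S1054.result chevE8 (by simp))) CoxeterMatrix.E₈.toCoxeterSystem (s := 6)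
    tabE8 okE8 chkE8 (fun a ha b hb hab => orth_of (orth1E8 a ha b hb hab))
    (fun g hg => (orth2E8 g hg).imp fun h => orth_of h)
    (Orders.ord_E8 hK (three_le hK) (S1065.result (F := K) rfl) hT)

theorem elem_chevF4 : Elem ↥(chevF4.group K) := by
  have hT := S1035.result (F := K) rfl (chevF4, 1) (by simp)
  rw [one_mul] at hT
  exact elem_chev isType_F4 hK (cen_of_simple (S1054.result chevF4 (by simp))) CoxeterMatrix.F₄.toCoxeterSystem (s := 3)
    tabF4 okF4 chkF4 (fun a ha b hb hab => orth_of (orth1F4 a ha b hb hab))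
    (fun g hg => (orth2F4 g hg).imp fun h => orth_of h)
    (Orders.ord_F4 hK (three_le hK) (S1062.result (F := K) rfl) hT)

end rows

end Cfsg.Agent.H775.Sd.ChevElem
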