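import Mathlib
import Cfsg.Agent.H775.Sd.ChevElem
import Cfsg.Agent.S4625

/-!
# `Elem` for `E₇(q)`, `E₈(q)`, `F₄(q)` (S4579, helper775)

`elem_e7`, `elem_e8`, `elem_f4` : all `q`; `elem_e7_odd`, ... : `q` odd.
-/

set_option autoImplicit false

namespace Cfsg.Agent.H775.Sd.Rows

universe u

open Cfsg Cfsg.Lie Cfsg.Agent.H643.Sd Cfsg.Agent.H775.Sd.ChevElem

theorem charP_two_of_not_odd {F : Type*} [Field F] [Fintype F] (h : ¬ Odd (Fintype.card F)) : CharP F 2 := by
  obtain ⟨p, hp⟩ := CharP.exists F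
  have hpp := CharP.char_is_prime F p
  obtain ⟨n, -, hn⟩ := FiniteField.card F p
  have h2 : 2 ∣ p ^ (n : ℕ) := by
    rw [← hn]
    exact even_iff_two_dvd.1 (Nat.not_odd_iff_even.1 h)
  have h3 : 2 = p := (Nat.prime_dvd_prime_iff_eq Nat.prime_two hpp).1 (Nat.prime_two.dvd_of_dvd_pow h2)
  rw [h3]
  exact hp

/-- a group of Lie type of characteristic `2` -/
theorem elem_of_char_two {S : Type u} [Group S] [Finite S] [IsSimpleGroup S] (h : IsLieTypeChar 2 S) : Elem S :=
  fun P f x => by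
    rw [← map_pow]
    exact Abelianization.commutator_subset_ker f (S4625.result h P x)

variable {S : Type u} [Group S] [Finite S]

/-- **`E₇(q)`**, `q` odd -/
theorem elem_e7_odd {F : Type} [Field F] [Fintype F] (hF : Odd (Fintype.card F)) (e : S ≃* chevE7.group F) : Elem S := by
  have : Finite (chevE7.group F) := Finite.of_equiv S e.toEquiv
  exact (elem_chevE7 F hF).congr e.symm

/-- **`E₈(q)`**, `q` odd -/
theorem elem_e8_odd {F : Type} [Field F] [Fintype F] (hF : Odd (Fintype.card F)) (e : S ≃* chevE8.group F) : Elem S := by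
  have : Finite (chevE8.group F) := Finite.of_equiv S e.toEquiv
  exact (elem_chevE8 F hF).congr e.symm

/-- **`F₄(q)`**, `q` odd -/
theorem elem_f4_odd {F : Type} [Field F] [Fintype F] (hF : Odd (Fintype.card F)) (e : S ≃* chevF4.group F) : Elem S := by
  have : Finite (chevF4.group F) := Finite.of_equiv S e.toEquiv
  exact (elem_chevF4 F hF).congr e.symm

variable [IsSimpleGroup S]

/-- **`E₇(q)`** -/
theorem elem_e7 (h : IsoE7 S) : Elem S := by
  obtain ⟨F, _, _, ⟨e⟩⟩ := h
  by_cases hF : Odd (Fintype.card F)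
  · exact elem_e7_odd hF e
  · have := charP_two_of_not_odd hF
    exact elem_of_char_two (Or.inr (Or.inr (Or.inr (Or.inr (Or.inr (Or.inr (Or.inl
      ⟨F, inferInstance, inferInstance, this, Or.inr (Or.inr (Or.inr (Or.inl ⟨e⟩)))⟩)))))))

/-- **`E₈(q)`** -/
theorem elem_e8 (h : IsoE8 S) : Elem S := by
  obtain ⟨F, _, _, ⟨e⟩⟩ := h
  by_cases hF : Odd (Fintype.card F)
  · exact elem_e8_odd hF e
  · have := charP_two_of_not_odd hF
    exact elem_of_char_two (Or.inr (Or.inr (Or.inr (Or.inr (Or.inr (Or.inr (Or.inl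
      ⟨F, inferInstance, inferInstance, this, Or.inr (Or.inr (Or.inr (Or.inr ⟨e⟩)))⟩)))))))

/-- **`F₄(q)`** -/
theorem elem_f4 (h : IsoF4 S) : Elem S := by
  obtain ⟨F, _, _, ⟨e⟩⟩ := h
  by_cases hF : Odd (Fintype.card F)
  · exact elem_f4_odd hF e
  · have := charP_two_of_not_odd hF
    exact elem_of_char_two (Or.inr (Or.inr (Or.inr (Or.inr (Or.inr (Or.inr (Or.inl
      ⟨F, inferInstance, inferInstance, this, Or.inr (Or.inl ⟨e⟩)⟩)))))))

end Cfsg.Agent.H775.Sd.Rows
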